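import Groth.Agent.ValDense.Basic
import Mathlib.AlgebraicGeometry.Morphisms.FlatMono
import Mathlib.AlgebraicGeometry.ValuativeCriterion
import Mathlib.Algebra.Category.Ring.Constructions

/-!
# Monomorphisms, lifting of valuations and specializations
-/

set_option autoImplicit false
set_option linter.style.haveILetI false
set_option backward.isDefEq.respectTransparency false
set_option backward.isDefEq.respectTransparency.types false

universe u

namespace Groth.Agent.MonoVal

open CategoryTheory CategoryTheory.Limits AlgebraicGeometry IsLocalRing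

/-- Two points of a scheme with the same image under a monomorphism are equal. -/
lemma injective_of_mono {W X : Scheme.{u}} (m : W ⟶ X) [Mono m] : Function.Injective m.base :=
  Scheme.Hom.injective m

lemma flat_of_isField {A B : Type u} [CommRing A] [CommRing B] (h : IsField A) (φ : A →+* B) : φ.Flat := by
  letI := h.toField
  algebraize [φ]
  show Module.Flat A B
  exact Module.Flat.of_free

/-- A monomorphism has a section over the residue field of any point of its image. -/
lemma exists_section {W X : Scheme.{u}} (m : W ⟶ X) [Mono m] (w : W) :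
    ∃ s : Spec (X.residueField (m w)) ⟶ W, s ≫ m = X.fromSpecResidueField (m w) := by
  let m' := pullback.snd m (X.fromSpecResidueField (m w))
  haveI : Mono m' := inferInstance
  obtain ⟨t, -, -⟩ := Scheme.Pullback.exists_preimage_pullback (f := m) (g := X.fromSpecResidueField (m w))
    w (closedPoint _) (Scheme.fromSpecResidueField_apply _ _).symm
  haveI : Nonempty ↥(pullback m (X.fromSpecResidueField (m w))) := ⟨t⟩
  haveI : Subsingleton ↥(Spec (X.residueField (m w))) :=
    inferInstanceAs (Subsingleton (PrimeSpectrum (X.residueField (m w))))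
  haveI : Subsingleton ↥(pullback m (X.fromSpecResidueField (m w))) := (injective_of_mono m').subsingleton
  haveI : CompactSpace ↥(pullback m (X.fromSpecResidueField (m w))) := inferInstance
  haveI : QuasiCompact m' := AlgebraicGeometry.quasiCompact_of_compactSpace m'
  haveI : Surjective m' := ⟨fun p => ⟨t, Subsingleton.elim _ _⟩⟩
  haveI : Flat m' := by
    rw [HasRingHomProperty.iff_of_source_openCover (P := @Flat)
      (pullback m (X.fromSpecResidueField (m w))).affineCover]
    intro i
    have hF : IsField Γ(Spec (X.residueField (m w)), ⊤) := MulEquiv.isField (Field.toIsField _)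
      (Scheme.ΓSpecIso (X.residueField (m w))).commRingCatIsoToRingEquiv.toMulEquiv
    exact flat_of_isField hF _
  haveI : IsIso m' := Flat.isIso_of_surjective_of_mono m'
  exact ⟨inv m' ≫ pullback.fst m (X.fromSpecResidueField (m w)), by
    rw [Category.assoc, pullback.condition, ← Category.assoc]
    exact (congrArg (· ≫ _) (IsIso.inv_hom_id m')).trans (Category.id_comp _)⟩

variable {X Y : Scheme.{u}} (f : Y ⟶ X)

/-- All base changes reflect specializations, with a class of base changes. -/
def Reflects {X' : Scheme.{u}} (g : X' ⟶ X) : Prop :=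
  ∀ y₀ y₁ : ↥(pullback f g),
    (pullback.snd f g).base y₁ ⤳ (pullback.snd f g).base y₀ → y₁ ⤳ y₀

/-- Valuative lifting in the presence of a residue point. -/
def ResLift (S : ValuativeCommSq f) : Prop :=
  (∃ l₀ : Spec (CommRingCat.of (IsLocalRing.ResidueField S.R)) ⟶ Y,
      l₀ ≫ f = Spec.map (CommRingCat.ofHom (IsLocalRing.residue S.R)) ≫ S.i₂) →
    S.commSq.HasLift

/-- A lift through a valuation ring forces a specialization. -/
lemma specializes_of_lift [Mono f] {X' : Scheme.{u}} (g : X' ⟶ X) (y₀ y₁ : ↥(pullback f g))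
    {K : Type u} [Field K] (R : ValuationSubring K) (γ : Spec (CommRingCat.of R) ⟶ X')
    (l : Spec (CommRingCat.of R) ⟶ Y) (hl : l ≫ f = γ ≫ g)
    (h₁ : (Spec.map (CommRingCat.ofHom R.subtype) ≫ γ) (closedPoint K) = pullback.snd f g y₁)
    (h₀ : γ (closedPoint R) = pullback.snd f g y₀) : y₁ ⤳ y₀ := by
  let m : Spec (CommRingCat.of R) ⟶ pullback f g := pullback.lift l γ hl
  have hm : m ≫ pullback.snd f g = γ := pullback.lift_snd _ _ _
  haveI : Mono (pullback.snd f g) := inferInstance
  have e₀ : m (closedPoint R) = y₀ := injective_of_mono (pullback.snd f g) (by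
    change pullback.snd f g (m (closedPoint R)) = _
    rw [← Scheme.Hom.comp_apply, hm]
    exact h₀)
  have e₁ : (Spec.map (CommRingCat.ofHom R.subtype) ≫ m) (closedPoint K) = y₁ :=
    injective_of_mono (pullback.snd f g) (by
      change pullback.snd f g ((Spec.map (CommRingCat.ofHom R.subtype) ≫ m) (closedPoint K)) = _
      rw [← Scheme.Hom.comp_apply, Category.assoc, hm]
      exact h₁)
  rw [← e₀, ← e₁, Scheme.Hom.comp_apply]
  exact (IsLocalRing.specializes_closedPoint _).map m.continuous

/-- The residue point needed by the valuative hypothesis. -/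
lemma exists_residue_point [Mono f] {X' : Scheme.{u}} (g : X' ⟶ X) (y₀ : ↥(pullback f g))
    {R : Type u} [CommRing R] [IsLocalRing R] (γ : Spec (CommRingCat.of R) ⟶ X')
    (h₀ : γ (closedPoint R) = pullback.snd f g y₀) :
    ∃ l₀ : Spec (CommRingCat.of (IsLocalRing.ResidueField R)) ⟶ Y,
      l₀ ≫ f = Spec.map (CommRingCat.ofHom (IsLocalRing.residue R)) ≫ γ ≫ g := by
  let c := Spec.map (CommRingCat.ofHom (IsLocalRing.residue R)) ≫ γ
  let pt := c (closedPoint (IsLocalRing.ResidueField R))
  have hpt : pt = pullback.snd f g y₀ := by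
    refine Eq.trans ?_ h₀
    exact (Scheme.Hom.comp_apply _ _ _).trans
      (congrArg _ (IsLocalRing.comap_closedPoint (IsLocalRing.residue R)))
  obtain ⟨s, hs⟩ := exists_section (pullback.snd f g) y₀
  let φ := X'.descResidueField (Scheme.stalkClosedPointTo c)
  have hφ : Spec.map φ ≫ X'.fromSpecResidueField pt = c :=
    X'.descResidueField_stalkClosedPointTo_fromSpecResidueField _ c
  refine ⟨(Spec.map φ ≫ Spec.map (X'.residueFieldCongr hpt.symm).hom) ≫ s ≫ pullback.fst f g, ?_⟩
  simp only [Category.assoc, pullback.condition, reassoc_of% hs,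
    Scheme.residueFieldCongr_fromSpecResidueField_assoc, reassoc_of% hφ]
  rfl

theorem reflects_of_resLift [Mono f] (H : ∀ S : ValuativeCommSq f, ResLift f S) {X' : Scheme.{u}}
    (g : X' ⟶ X) : Reflects f g := by
  intro y₀ y₁ h
  obtain ⟨R, γ, hγ, hγ₀⟩ := ValDense.exists_centred (pullback.snd f g) h
  let K := (pullback f g).residueField y₁
  let S : ValuativeCommSq f :=
    ⟨R, K, (pullback f g).fromSpecResidueField y₁ ≫ pullback.fst f g, γ ≫ g, ⟨by
      rw [Category.assoc, pullback.condition, ← Category.assoc, ← hγ, Category.assoc]; rfl⟩⟩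
  obtain ⟨⟨l⟩⟩ := H S (exists_residue_point f g y₀ γ hγ₀)
  refine specializes_of_lift f g y₀ y₁ R γ l.l l.fac_right ?_ hγ₀
  rw [hγ, Scheme.Hom.comp_apply]
  exact congrArg _ (Scheme.fromSpecResidueField_apply _ _)

theorem reflects_of_dvr [Mono f] [IsLocallyNoetherian X]
    (H : ∀ S : ValuativeCommSq f, IsDiscreteValuationRing S.R → ResLift f S) {X' : Scheme.{u}}
    (g : X' ⟶ X) [LocallyOfFiniteType g] : Reflects f g := by
  intro y₀ y₁ h
  haveI : IsLocallyNoetherian X' := LocallyOfFiniteType.isLocallyNoetherian g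
  haveI : Mono (pullback.snd f g) := inferInstance
  by_cases hne : pullback.snd f g y₀ = pullback.snd f g y₁
  · rw [injective_of_mono (pullback.snd f g) hne]
  obtain ⟨R, γ, hR, hγ₀, hγ⟩ := DVRDom.exists_dvr_through_specialization (𝟙 X') (pullback.snd f g y₁)
    (pullback.snd f g y₀) h hne
  rw [Category.comp_id] at hγ
  obtain ⟨s, hs⟩ := exists_section (pullback.snd f g) y₁
  let S : ValuativeCommSq f :=
    ⟨R, X'.residueField (pullback.snd f g y₁), s ≫ pullback.fst f g, γ ≫ g, ⟨by
      rw [Category.assoc, pullback.condition, reassoc_of% hs, ← hγ, Category.assoc]; rfl⟩⟩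
  obtain ⟨⟨l⟩⟩ := H S hR (exists_residue_point f g y₀ γ hγ₀)
  refine specializes_of_lift f g y₀ y₁ R γ l.l l.fac_right ?_ hγ₀
  rw [hγ]
  exact Scheme.fromSpecResidueField_apply _ _

theorem resLift_of_reflects (H : ∀ (X' : Scheme.{u}) (g : X' ⟶ X), Reflects f g)
    (S : ValuativeCommSq f) : ResLift f S := by
  obtain ⟨A, K, i₁, i₂, ⟨w⟩⟩ := S
  rintro ⟨l₀, hl₀⟩
  let k : Spec (CommRingCat.of K) ⟶ pullback f i₂ :=
    pullback.lift i₁ (Spec.map (CommRingCat.ofHom (algebraMap A K))) w
  let r₀ : Spec (CommRingCat.of (IsLocalRing.ResidueField A)) ⟶ pullback f i₂ :=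
    pullback.lift l₀ (Spec.map (CommRingCat.ofHom (IsLocalRing.residue A))) hl₀
  let z₀ := r₀ (closedPoint (IsLocalRing.ResidueField A))
  let z₁ := k (closedPoint K)
  have hz₀ : pullback.snd f i₂ z₀ = closedPoint A := by
    rw [← Scheme.Hom.comp_apply, pullback.lift_snd]
    exact IsLocalRing.comap_closedPoint (IsLocalRing.residue A)
  have hsp : z₁ ⤳ z₀ := H _ i₂ z₀ z₁ (by
    rw [hz₀]; exact IsLocalRing.specializes_closedPoint _)
  let O := (pullback f i₂).presheaf.stalk z₀
  let θ : O ⟶ CommRingCat.of K := (pullback f i₂).presheaf.stalkSpecializes hsp ≫ Scheme.stalkClosedPointTo k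
  have hθ : Spec.map θ ≫ (pullback f i₂).fromSpecStalk z₀ = k := by
    simp only [θ, O, Spec.map_comp, Category.assoc, Scheme.SpecMap_stalkSpecializes_fromSpecStalk]
    exact Scheme.Spec_stalkClosedPointTo_fromSpecStalk k
  let ι : CommRingCat.of A ⟶ O := Spec.preimage ((pullback f i₂).fromSpecStalk z₀ ≫ pullback.snd f i₂)
  have hι : Spec.map ι = (pullback f i₂).fromSpecStalk z₀ ≫ pullback.snd f i₂ := Spec.map_preimage _
  have hιθ : ι ≫ θ = CommRingCat.ofHom (algebraMap A K) := by
    apply Spec.map_injective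
    rw [Spec.map_comp, hι, reassoc_of% hθ]
    exact pullback.lift_snd _ _ _
  have hloc : IsLocalHom ι.hom := by
    refine (IsLocalRing.local_hom_TFAE ι.hom).out 4 0 |>.1 ?_
    have e : (Spec.map ι) (closedPoint O) = closedPoint A := by
      rw [hι, Scheme.Hom.comp_apply, ← hz₀]
      exact congrArg _ Scheme.fromSpecStalk_closedPoint
    exact congrArg PrimeSpectrum.asIdeal e
  have hmem : ∀ c : O, θ.hom c ∈ (algebraMap A K).range := fun c => by
    rcases ValuationRing.isInteger_or_isInteger A (θ.hom c) with hh | ⟨a, ha⟩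
    · exact hh
    have hιa : θ.hom (ι.hom a) = algebraMap A K a := congrArg (fun q => q.hom a) hιθ
    by_cases hu : IsUnit a
    · obtain ⟨v, rfl⟩ := hu
      exact ⟨((v⁻¹ : Aˣ) : A), by rw [map_units_inv, ha, inv_inv]⟩
    by_cases hc : θ.hom c = 0
    · exact ⟨0, by rw [map_zero, hc]⟩
    exfalso
    have h0 : θ.hom (1 - ι.hom a * c) = 0 := by
      rw [map_sub, map_one, map_mul, hιa, ha, inv_mul_cancel₀ hc, sub_self]
    have hu' : IsUnit (1 - ι.hom a * c) :=
      IsLocalRing.isUnit_one_sub_self_of_mem_nonunits _ (fun hh => hu (IsUnit.of_map ι.hom a (isUnit_of_mul_isUnit_left hh)))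
    exact not_isUnit_zero (h0 ▸ hu'.map θ.hom)
  let e : A ≃+* (algebraMap A K).range :=
    RingEquiv.ofBijective (algebraMap A K).rangeRestrict
      ⟨fun _ _ h => IsFractionRing.injective A K (congrArg Subtype.val h),
        (algebraMap A K).rangeRestrict_surjective⟩
  let r : O ⟶ CommRingCat.of A := CommRingCat.ofHom (e.symm.toRingHom.comp (θ.hom.codRestrict _ hmem))
  have hr : r ≫ CommRingCat.ofHom (algebraMap A K) = θ :=
    CommRingCat.hom_ext (RingHom.ext fun c =>
      congrArg Subtype.val (e.apply_symm_apply (θ.hom.codRestrict _ hmem c)))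
  have hιr : ι ≫ r = 𝟙 _ := by
    refine CommRingCat.hom_ext (RingHom.ext fun a => IsFractionRing.injective A K ?_)
    exact (congrArg (fun q => q.hom (ι.hom a)) hr).trans (congrArg (fun q => q.hom a) hιθ)
  refine ⟨⟨⟨Spec.map r ≫ (pullback f i₂).fromSpecStalk z₀ ≫ pullback.fst f i₂, ?_, ?_⟩⟩⟩
  · rw [← Spec.map_comp_assoc, hr, reassoc_of% hθ]
    exact pullback.lift_fst _ _ _
  · rw [Category.assoc, Category.assoc, pullback.condition, ← reassoc_of% hι, ← Spec.map_comp_assoc, hιr,
      Spec.map_id, Category.id_comp]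

end Groth.Agent.MonoVal
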