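import Groth.Agent.MonoVal.Basic
import Mathlib.AlgebraicGeometry.Noetherian

/-!
# Monomorphisms and lifts over dense sets of points
-/

set_option autoImplicit false
set_option linter.style.haveILetI false
set_option backward.isDefEq.respectTransparency false
set_option backward.isDefEq.respectTransparency.types false

universe u

namespace Groth.Agent.MonoVal

open CategoryTheory CategoryTheory.Limits AlgebraicGeometry IsLocalRing TopologicalSpace

/-- A field valued point through a point of the image of a monomorphism lifts. -/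
lemma exists_lift_point {W X : Scheme.{u}} (g : W ⟶ X) [Mono g] {L : Type u} [Field L]
    (c : Spec (CommRingCat.of L) ⟶ X) (hc : c (closedPoint L) ∈ Set.range g) :
    ∃ l : Spec (CommRingCat.of L) ⟶ W, l ≫ g = c := by
  obtain ⟨w, hw⟩ := hc
  obtain ⟨s, hs⟩ := exists_section g w
  let φ := X.descResidueField (Scheme.stalkClosedPointTo c)
  refine ⟨(Spec.map φ ≫ Spec.map (X.residueFieldCongr hw).hom) ≫ s, ?_⟩
  rw [Category.assoc, hs, Category.assoc, Scheme.residueFieldCongr_fromSpecResidueField]
  exact X.descResidueField_stalkClosedPointTo_fromSpecResidueField _ c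

/-- An immersion into a reduced scheme lifts every open of its range. -/
lemma exists_lift_open {E T : Scheme.{u}} (d : E ⟶ T) [IsImmersion d] [IsReduced T] (U : T.Opens)
    (hU : (U : Set T) ⊆ Set.range d) : ∃ l : U.toScheme ⟶ E, l ≫ d = U.ι := by
  let E' := pullback d U.ι
  let d' : E' ⟶ U.toScheme := pullback.snd d U.ι
  haveI : Surjective d' := ⟨fun x => by
    obtain ⟨e, he⟩ := hU x.2
    obtain ⟨z, -, hz⟩ := Scheme.Pullback.exists_preimage_pullback (f := d) (g := U.ι) e x he
    exact ⟨z, hz⟩⟩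
  haveI : IsImmersion d' := inferInstance
  haveI : IsClosedImmersion d' := .of_isPreimmersion d' (by rw [d'.surjective.range_eq]; exact isClosed_univ)
  haveI : IsIso d' := isIso_of_isClosedImmersion_of_surjective d'
  exact ⟨inv d' ≫ pullback.fst d U.ι, by
    rw [Category.assoc, pullback.condition, ← Category.assoc]
    exact (congrArg (· ≫ _) (IsIso.inv_hom_id d')).trans (Category.id_comp _)⟩

/-- Immersions satisfy the valuative lifting in presence of a residue point. -/
theorem resLift_of_isImmersion {X Y : Scheme.{u}} (f : Y ⟶ X) [IsImmersion f] (S : ValuativeCommSq f) :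
    ResLift f S := by
  obtain ⟨A, K, i₁, i₂, ⟨w⟩⟩ := S
  rintro ⟨l₀, hl₀⟩
  obtain ⟨O, C, hO, hC, hOC⟩ := f.isLocallyClosed_range
  have h0 : i₂ (closedPoint A) ∈ Set.range f := by
    refine ⟨l₀ (closedPoint _), ?_⟩
    rw [← Scheme.Hom.comp_apply, hl₀, Scheme.Hom.comp_apply]
    exact congrArg _ (IsLocalRing.comap_closedPoint (IsLocalRing.residue A))
  let η := Spec.map (CommRingCat.ofHom (algebraMap A K)) (closedPoint K)
  have h1 : i₂ η ∈ Set.range f := ⟨i₁ (closedPoint K), by
    rw [← Scheme.Hom.comp_apply, w, Scheme.Hom.comp_apply]⟩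
  have hgen : ∀ p, η ⤳ p := fun p => by
    refine (PrimeSpectrum.le_iff_specializes η p).mp ?_
    change Ideal.comap (algebraMap A K) (maximalIdeal K) ≤ p.asIdeal
    rw [IsLocalRing.maximalIdeal_eq_bot (R := K),
      show Ideal.comap (algebraMap A K) ⊥ = ⊥ from
        Ideal.comap_bot_of_injective _ (IsFractionRing.injective A K)]
    exact bot_le
  have hall : ∀ p, i₂ p ∈ Set.range f := fun p => by
    rw [hOC] at h0 h1 ⊢
    exact ⟨((IsLocalRing.specializes_closedPoint p).map i₂.continuous).mem_open hO h0.1,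
      ((hgen p).map i₂.continuous).mem_closed hC h1.2⟩
  obtain ⟨l, hl⟩ := exists_lift_open (pullback.snd f i₂) ⊤ (fun p _ => by
    obtain ⟨y, hy⟩ := hall p
    obtain ⟨z, -, hz⟩ := Scheme.Pullback.exists_preimage_pullback (f := f) (g := i₂) y p hy
    exact ⟨z, hz⟩)
  let T := Spec (CommRingCat.of A)
  let L : T ⟶ Y := T.topIso.inv ≫ l ≫ pullback.fst f i₂
  have hLf : L ≫ f = i₂ := by
    simp only [L, Category.assoc, pullback.condition, reassoc_of% hl]
    simp
  refine ⟨⟨⟨L, ?_, hLf⟩⟩⟩
  rw [← cancel_mono f, Category.assoc, hLf, w]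

/-- Immersions satisfy lifting over a dense set of points. -/
theorem exists_lift_of_dense {X Y : Scheme.{u}} (f : Y ⟶ X) [IsImmersion f]
    {T : Scheme.{u}} [IsReduced T] [Nonempty T] (s : T ⟶ X) (D : Set T) (hD : Dense D)
    (hl : ∀ p ∈ D, ∃ l : Spec (T.residueField p) ⟶ Y, l ≫ f = T.fromSpecResidueField p ≫ s) :
    ∃ U : T.Opens, (U : Set T).Nonempty ∧ ∃ l : U.toScheme ⟶ Y, l ≫ f = U.ι ≫ s := by
  have hsub : D ⊆ Set.range (pullback.snd f s) := fun p hp => by
    obtain ⟨l, hl⟩ := hl p hp
    refine ⟨pullback.lift l (T.fromSpecResidueField p) hl (closedPoint _), ?_⟩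
    rw [← Scheme.Hom.comp_apply, pullback.lift_snd]
    exact Scheme.fromSpecResidueField_apply _ _
  obtain ⟨O, C, hO, hC, hOC⟩ := (pullback.snd f s).isLocallyClosed_range
  have hCu : C = Set.univ := by
    have h1 : closure D ⊆ C := hC.closure_subset_iff.2 (hsub.trans (hOC ▸ Set.inter_subset_right))
    rw [hD.closure_eq] at h1
    exact Set.univ_subset_iff.1 h1
  have hr : Set.range (pullback.snd f s) = O := by rw [hOC, hCu, Set.inter_univ]
  obtain ⟨l, hl⟩ := exists_lift_open (pullback.snd f s) ⟨O, hO⟩ hr.ge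
  refine ⟨⟨O, hO⟩, by show O.Nonempty; rw [← hr]; exact hD.nonempty.mono hsub, l ≫ pullback.fst f s, ?_⟩
  rw [Category.assoc, pullback.condition, reassoc_of% hl]

/-- The dense lifting condition makes a monomorphism quasi-compact. -/
theorem quasiCompact_of_dense {X Y : Scheme.{u}} [IsLocallyNoetherian X] (f : Y ⟶ X) [Mono f]
    (hc : ∀ (A : Type u) [CommRing A] [IsDomain A] (s : Spec (CommRingCat.of A) ⟶ X) (D : Set ↥(Spec (CommRingCat.of A))),
        Dense D →
        (∀ p ∈ D, ∃ l : Spec ((Spec (CommRingCat.of A)).residueField p) ⟶ Y,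
            l ≫ f = (Spec (CommRingCat.of A)).fromSpecResidueField p ≫ s) →
          ∃ U : (Spec (CommRingCat.of A)).Opens, (U : Set ↥(Spec (CommRingCat.of A))).Nonempty ∧
            ∃ l : (U : Scheme.{u}) ⟶ Y, l ≫ f = U.ι ≫ s) :
    QuasiCompact f := by
  rw [quasiCompact_iff_forall_isAffineOpen]
  intro U hU
  haveI : IsNoetherianRing Γ(X, U) := IsLocallyNoetherian.component_noetherian ⟨U, hU⟩
  let R := Γ(X, U)
  let g := pullback.snd f hU.fromSpec
  haveI : Mono g := inferInstance
  haveI : NoetherianSpace ↥(Spec R) := inferInstanceAs (NoetherianSpace (PrimeSpectrum R))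
  have main : ∀ C : Closeds ↥(Spec R), IsCompact (g ⁻¹' (C : Set ↥(Spec R))) := by
    intro C
    induction C using WellFoundedLT.induction with
    | _ C ih =>
    rcases (C : Set ↥(Spec R)).eq_empty_or_nonempty with h0 | hne
    · rw [h0, Set.preimage_empty]; exact isCompact_empty
    by_cases hirr : IsPreirreducible (C : Set ↥(Spec R))
    swap
    · rw [isPreirreducible_iff_isClosed_union_isClosed] at hirr
      push Not at hirr
      obtain ⟨a, b, ha, hb, hab, hna, hnb⟩ := hirr
      have hlt : ∀ c (hc : IsClosed c), ¬ (C : Set ↥(Spec R)) ⊆ c →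
          IsCompact (g ⁻¹' ((C : Set ↥(Spec R)) ∩ c)) := fun c hc hnc =>
        ih ⟨(C : Set ↥(Spec R)) ∩ c, C.isClosed.inter hc⟩ (lt_of_le_of_ne (fun x hx => hx.1)
          fun h => hnc fun x hx => ((Set.ext_iff.1 (congrArg (fun D : Closeds ↥(Spec R) => (D : Set ↥(Spec R))) h) x).2 hx).2)
      have hu : g ⁻¹' (C : Set ↥(Spec R)) = g ⁻¹' ((C : Set ↥(Spec R)) ∩ a) ∪ g ⁻¹' ((C : Set ↥(Spec R)) ∩ b) := by
        rw [← Set.preimage_union, ← Set.inter_union_distrib_left, Set.inter_eq_left.2 hab]
      rw [hu]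
      exact (hlt a ha hna).union (hlt b hb hnb)
    by_cases hd : (C : Set ↥(Spec R)) ⊆ closure (Set.range g ∩ C)
    swap
    · have := ih ⟨closure (Set.range g ∩ C), isClosed_closure⟩
        (lt_of_le_of_ne (closure_minimal Set.inter_subset_right C.isClosed)
          fun h => hd (congrArg (fun D : Closeds ↥(Spec R) => (D : Set ↥(Spec R))) h).ge)
      have hu : g ⁻¹' (C : Set ↥(Spec R)) = g ⁻¹' closure (Set.range g ∩ C) := by
        refine Set.Subset.antisymm (fun y hy => subset_closure ⟨⟨y, rfl⟩, hy⟩) ?_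
        exact Set.preimage_mono (closure_minimal Set.inter_subset_right C.isClosed)
      rw [hu]
      exact this
    obtain ⟨p, hp⟩ := QuasiSober.sober ⟨hne, hirr⟩ C.isClosed
    let A := R ⧸ p.asIdeal
    let q : Spec (CommRingCat.of A) ⟶ Spec R := Spec.map (CommRingCat.ofHom (Ideal.Quotient.mk p.asIdeal))
    haveI : IsClosedImmersion q := IsClosedImmersion.spec_of_surjective _ Ideal.Quotient.mk_surjective
    have hrange : Set.range q = C := by
      have h1 : Set.range q = PrimeSpectrum.zeroLocus (p.asIdeal : Set R) := by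
        refine (range_comap_of_surjective _ (Ideal.Quotient.mk p.asIdeal) Ideal.Quotient.mk_surjective).trans ?_
        rw [Ideal.mk_ker]
      rw [h1, ← hp.def, PrimeSpectrum.closure_singleton]
    let D : Set ↥(Spec (CommRingCat.of A)) := q ⁻¹' Set.range g
    have hD : Dense D := by
      intro a
      rw [q.isClosedEmbedding.isEmbedding.closure_eq_preimage_closure_image, Set.mem_preimage]
      refine closure_mono ?_ (hd (hrange.le ⟨a, rfl⟩))
      rintro x ⟨hx, hxC⟩
      obtain ⟨a', rfl⟩ := hrange.ge hxC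
      exact ⟨a', hx, rfl⟩
    obtain ⟨W, hWne, l, hl⟩ := hc A (q ≫ hU.fromSpec) D hD fun a ha => by
      obtain ⟨m, hm⟩ := exists_lift_point g
        ((Spec (CommRingCat.of A)).fromSpecResidueField a ≫ q) (by
          rw [Scheme.Hom.comp_apply]
          exact (congrArg q (Scheme.fromSpecResidueField_apply _ _)).symm ▸ ha)
      exact ⟨m ≫ pullback.fst f hU.fromSpec, by rw [Category.assoc, pullback.condition, reassoc_of% hm]⟩
    let l' : W.toScheme ⟶ pullback f hU.fromSpec :=
      pullback.lift l (W.ι ≫ q) (by rw [hl, Category.assoc])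
    haveI : NoetherianSpace ↥(Spec (CommRingCat.of A)) := q.isClosedEmbedding.isInducing.noetherianSpace
    haveI : NoetherianSpace W.toScheme := W.ι.isOpenEmbedding.isInducing.noetherianSpace
    have hlt := ih ⟨q '' (W : Set ↥(Spec (CommRingCat.of A)))ᶜ, q.isClosedEmbedding.isClosedMap _ W.2.isClosed_compl⟩
      (lt_of_le_of_ne (fun x hx => hrange.le (Set.image_subset_range _ _ hx)) fun h => by
        obtain ⟨a, ha⟩ := hWne
        obtain ⟨b, hb, hba⟩ := (congrArg (fun D : Closeds ↥(Spec R) => (D : Set ↥(Spec R))) h).ge (hrange.le ⟨a, rfl⟩)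
        exact hb (q.isClosedEmbedding.injective hba ▸ ha))
    have hu : g ⁻¹' (C : Set ↥(Spec R)) = Set.range l' ∪ g ⁻¹' (q '' (W : Set ↥(Spec (CommRingCat.of A)))ᶜ) := by
      refine Set.Subset.antisymm (fun y hy => ?_) (Set.union_subset ?_ (Set.preimage_mono ?_))
      · obtain ⟨a, ha⟩ := hrange.ge hy
        by_cases haW : a ∈ W
        · refine Or.inl ⟨⟨a, haW⟩, injective_of_mono g ?_⟩
          change g (l' ⟨a, haW⟩) = g y
          rw [← Scheme.Hom.comp_apply, show l' ≫ g = W.ι ≫ q from pullback.lift_snd _ _ _, Scheme.Hom.comp_apply]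
          exact ha
        · exact Or.inr ⟨a, haW, ha⟩
      · rintro _ ⟨a, rfl⟩
        show g (l' a) ∈ (C : Set ↥(Spec R))
        rw [← Scheme.Hom.comp_apply, show l' ≫ g = W.ι ≫ q from pullback.lift_snd _ _ _, Scheme.Hom.comp_apply]
        exact hrange.le ⟨_, rfl⟩
      · exact fun x hx => hrange.le (Set.image_subset_range _ _ hx)
    rw [hu]
    exact (isCompact_range l'.continuous).union hlt
  have hU' : (f ⁻¹ᵁ U : Set Y) = pullback.fst f hU.fromSpec '' Set.univ := by
    rw [Set.image_univ, Scheme.Pullback.range_fst, hU.range_fromSpec]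
    rfl
  refine hU' ▸ IsCompact.image ?_ (pullback.fst f hU.fromSpec).continuous
  simpa [g] using main ⊤

end Groth.Agent.MonoVal
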