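import Groth.Agent.MonoVal.Dense
import Groth.Agent.ZMT.FiniteFactor
import Groth.Agent.DVRDom.Criterion
import Mathlib.AlgebraicGeometry.ZariskisMainTheorem
import Mathlib.AlgebraicGeometry.Morphisms.FinitePresentation
import Mathlib.RingTheory.Spectrum.Prime.ConstructibleSet

/-!
# A quasi-compact monomorphism with valuative lifting is an immersion
-/

set_option autoImplicit false
set_option linter.style.haveILetI false
set_option backward.isDefEq.respectTransparency false
set_option backward.isDefEq.respectTransparency.types false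

universe u

namespace Groth.Agent.MonoVal

open CategoryTheory CategoryTheory.Limits AlgebraicGeometry IsLocalRing TopologicalSpace Topology

variable {X Y : Scheme.{u}}

/-- The valuative hypothesis for discrete valuation rings. -/
def DVRResLift (f : Y ⟶ X) : Prop :=
  ∀ S : ValuativeCommSq f, IsDiscreteValuationRing S.R → ResLift f S

/-- Points between two points of the image are in the image. -/
lemma mem_range_of_between {R : CommRingCat.{u}} [IsNoetherianRing R] {W : Scheme.{u}} (g : W ⟶ Spec R)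
    [Mono g] [LocallyOfFiniteType g] [QuasiCompact g] (hb : DVRResLift g) {x₀ x₁ x₂ : Spec R}
    (h₂₁ : x₂ ⤳ x₁) (h₁₀ : x₁ ⤳ x₀) (h₂ : x₂ ∈ Set.range g) (h₀ : x₀ ∈ Set.range g) :
    x₁ ∈ Set.range g := by
  haveI : IsSeparated g := inferInstance
  haveI : LocallyQuasiFinite g := LocallyQuasiFinite.of_injective (injective_of_mono g)
  obtain ⟨T, j, π, hj, hjqc, hπ, e⟩ := Groth.Agent.ZMT.exists_openImmersion_finite g
  haveI : IsLocallyNoetherian T := LocallyOfFiniteType.isLocallyNoetherian π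
  obtain ⟨y₂, rfl⟩ := h₂
  -- lift the chain to `T`
  have hclosed : IsClosedMap π := π.isClosedMap
  obtain ⟨z₁, hz₁, hπz₁⟩ : x₁ ∈ π '' closure {j y₂} := by
    refine (h₂₁.mem_closed (hclosed _ isClosed_closure) ⟨j y₂, subset_closure rfl, ?_⟩)
    rw [← Scheme.Hom.comp_apply, e]
  obtain ⟨z₀, hz₀, hπz₀⟩ : x₀ ∈ π '' closure {z₁} :=
    h₁₀.mem_closed (hclosed _ isClosed_closure) ⟨z₁, subset_closure rfl, hπz₁⟩
  have hs₁₀ : z₁ ⤳ z₀ := specializes_iff_mem_closure.2 hz₀
  have hs₂₀ : j y₂ ⤳ z₀ := (specializes_iff_mem_closure.2 hz₁).trans hs₁₀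
  have hmem : z₀ ∈ Set.range j := by
    by_cases hne : z₀ = j y₂
    · exact ⟨y₂, hne.symm⟩
    obtain ⟨A, γ, hA, hγ₀, hγ⟩ := DVRDom.exists_dvr_through_specialization j y₂ z₀ hs₂₀ hne
    let S : ValuativeCommSq g :=
      ⟨A, W.residueField y₂, W.fromSpecResidueField y₂, γ ≫ π, ⟨by
        show W.fromSpecResidueField y₂ ≫ g = Spec.map (CommRingCat.ofHom A.subtype) ≫ γ ≫ π
        rw [reassoc_of% hγ, e]⟩⟩
    obtain ⟨l₀, hl₀⟩ := exists_lift_point g
      (Spec.map (CommRingCat.ofHom (IsLocalRing.residue A)) ≫ γ ≫ π) (by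
        rw [Scheme.Hom.comp_apply, Scheme.Hom.comp_apply]
        have : π (γ (closedPoint A)) ∈ Set.range g := by rw [hγ₀, hπz₀]; exact h₀
        refine Eq.substr (congrArg (fun p => π (γ p)) ?_) this
        exact IsLocalRing.comap_closedPoint (IsLocalRing.residue A))
    obtain ⟨⟨l⟩⟩ := hb S hA ⟨l₀, hl₀⟩
    have hl : l.l ≫ j = γ := by
      have hgen : Spec.map (CommRingCat.ofHom A.subtype) ≫ l.l ≫ j =
          W.fromSpecResidueField y₂ ≫ j := by
        rw [← Category.assoc]; exact congrArg (· ≫ j) l.fac_left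
      exact ValDense.uniqueAlong_of_isSeparated j π y₂ A (l.l ≫ j) γ
        (by rw [Category.assoc, e]; exact l.fac_right) hgen hγ
    exact ⟨l.l (closedPoint A), by rw [← Scheme.Hom.comp_apply, hl, hγ₀]⟩
  obtain ⟨y₁, rfl⟩ := hs₁₀.mem_open j.isOpenEmbedding.isOpen_range hmem
  exact ⟨y₁, by rw [← hπz₁, ← Scheme.Hom.comp_apply, e]⟩

/-- The affine case. -/
theorem isImmersion_of_dvrResLift_affine {R : CommRingCat.{u}} [IsNoetherianRing R] {W : Scheme.{u}}
    (g : W ⟶ Spec R) [Mono g] [LocallyOfFinitePresentation g] [QuasiCompact g] (hb : DVRResLift g) :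
    IsImmersion g := by
  haveI : NoetherianSpace ↥(Spec R) := inferInstanceAs (NoetherianSpace (PrimeSpectrum R))
  have hcons : IsConstructible (Set.range g) := by
    rw [← Set.image_univ]
    exact g.isConstructible_image (IsConstructible.univ)
  have hclc : IsConstructible (closure (Set.range g)) := by
    rw [← compl_compl (closure (Set.range g))]
    exact (IsRetrocompact.isConstructible isClosed_closure.isOpen_compl
      fun t _ _ => NoetherianSpace.isCompact _).compl
  have hBd : IsClosed (closure (Set.range g) \ Set.range g) := by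
    refine PrimeSpectrum.isClosed_of_stableUnderSpecialization_of_isConstructible ?_ (hclc.sdiff hcons)
    rintro x₁ x₀ h₁₀ ⟨hc, hn⟩
    refine ⟨h₁₀.mem_closed isClosed_closure hc, fun h₀ => hn ?_⟩
    obtain ⟨w, hw⟩ := Groth.Agent.LimSch.exists_specializes_of_mem_closure_range g hc
    exact mem_range_of_between g hb hw h₁₀ ⟨w, rfl⟩ h₀
  let Ω : (Spec R).Opens := ⟨(closure (Set.range g) \ Set.range g)ᶜ, hBd.isOpen_compl⟩
  have hsub : Set.range g ⊆ Set.range Ω.ι := by
    rw [Scheme.Opens.range_ι]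
    exact fun x hx hxB => hxB.2 hx
  let g' := IsOpenImmersion.lift Ω.ι g hsub
  have hg' : g' ≫ Ω.ι = g := IsOpenImmersion.lift_fac _ _ _
  haveI : Mono g' := mono_of_mono_fac hg'
  haveI : LocallyOfFiniteType g' := by
    have : LocallyOfFiniteType (g' ≫ Ω.ι) := by rw [hg']; infer_instance
    exact locallyOfFiniteType_of_comp g' Ω.ι
  haveI : QuasiCompact g' := by
    have : QuasiCompact (g' ≫ Ω.ι) := by rw [hg']; infer_instance
    exact QuasiCompact.of_comp g' Ω.ι
  haveI : IsProper g' := by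
    refine (DVRDom.isProper_iff_dvr g').2 ⟨?_, fun A _ _ _ g₁ g₂ h _ => (cancel_mono g').1 h⟩
    intro A _ _ _ x y hxy
    let S : ValuativeCommSq g :=
      ⟨A, FractionRing A, x, y ≫ Ω.ι, ⟨by rw [← hg', reassoc_of% hxy]⟩⟩
    have h0 : (y ≫ Ω.ι) (closedPoint A) ∈ Set.range g := by
      by_contra hn
      have hΩ : (y (closedPoint A)).1 ∈ Ω := (y (closedPoint A)).2
      refine hΩ ⟨?_, hn⟩
      have hη : (y ≫ Ω.ι) (Spec.map (CommRingCat.ofHom (algebraMap A (FractionRing A))) (closedPoint (FractionRing A)))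
          ∈ Set.range g := ⟨x (closedPoint (FractionRing A)), by
        rw [← Scheme.Hom.comp_apply, ← hg', reassoc_of% hxy, Scheme.Hom.comp_apply]⟩
      exact ((IsLocalRing.specializes_closedPoint _).map (y ≫ Ω.ι).continuous).mem_closed isClosed_closure
        (subset_closure hη)
    obtain ⟨l₀, hl₀⟩ := exists_lift_point g
      (Spec.map (CommRingCat.ofHom (IsLocalRing.residue A)) ≫ y ≫ Ω.ι) (by
        rw [Scheme.Hom.comp_apply]
        refine Eq.substr (congrArg (fun p => (y ≫ Ω.ι) p) ?_) h0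
        exact IsLocalRing.comap_closedPoint (IsLocalRing.residue A))
    obtain ⟨⟨l⟩⟩ := hb S (inferInstanceAs (IsDiscreteValuationRing A)) ⟨l₀, hl₀⟩
    refine ⟨l.l, ?_, l.fac_left⟩
    rw [← cancel_mono Ω.ι, Category.assoc, hg']
    exact l.fac_right
  haveI : IsClosedImmersion g' := (IsClosedImmersion.iff_isProper_and_mono g').2 ⟨inferInstance, inferInstance⟩
  rw [← hg']
  infer_instance

lemma isImmersion_snd_of_dvrResLift [IsLocallyNoetherian X] (f : Y ⟶ X) [Mono f]
    [LocallyOfFinitePresentation f] [QuasiCompact f] (hb : DVRResLift f) {R : CommRingCat.{u}}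
    (j : Spec R ⟶ X) [IsOpenImmersion j] : IsImmersion (pullback.snd f j) := by
  haveI : IsLocallyNoetherian (Spec R) := isLocallyNoetherian_of_isOpenImmersion j
  haveI : IsNoetherianRing R := isLocallyNoetherian_Spec.1 inferInstance
  refine isImmersion_of_dvrResLift_affine (pullback.snd f j) ?_
  rintro ⟨A, K, i₁, i₂, ⟨w⟩⟩ hA ⟨l₀, hl₀⟩
  have e₁ : (i₁ ≫ pullback.fst f j) ≫ f = Spec.map (CommRingCat.ofHom (algebraMap A K)) ≫ i₂ ≫ j := by
    rw [Category.assoc, pullback.condition, reassoc_of% w]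
  have e₀ : (l₀ ≫ pullback.fst f j) ≫ f =
      Spec.map (CommRingCat.ofHom (residue A)) ≫ i₂ ≫ j :=
    (Category.assoc _ _ _).trans ((congrArg (l₀ ≫ ·) pullback.condition).trans
      ((Category.assoc _ _ _).symm.trans ((congrArg (· ≫ j) hl₀).trans (Category.assoc _ _ _))))
  obtain ⟨⟨l⟩⟩ := hb ⟨A, K, i₁ ≫ pullback.fst f j, i₂ ≫ j, ⟨e₁⟩⟩ hA ⟨l₀ ≫ pullback.fst f j, e₀⟩
  refine ⟨⟨⟨pullback.lift l.l i₂ l.fac_right, ?_, pullback.lift_snd _ _ _⟩⟩⟩
  rw [← cancel_mono (pullback.snd f j), Category.assoc, pullback.lift_snd]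
  exact w.symm

/-- A quasi-compact monomorphism with the valuative lifting is an immersion. -/
theorem isImmersion_of_dvrResLift [IsLocallyNoetherian X] (f : Y ⟶ X) [Mono f]
    [LocallyOfFinitePresentation f] [QuasiCompact f] (hb : DVRResLift f) : IsImmersion f := by
  refine IsZariskiLocalAtTarget.of_openCover (P := @IsImmersion) X.affineCover fun i => ?_
  exact isImmersion_snd_of_dvrResLift f hb (X.affineCover.f i)

end Groth.Agent.MonoVal
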