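import Groth.Agent.MonoVal.Basic
import Mathlib.AlgebraicGeometry.Pullbacks
import Mathlib.AlgebraicGeometry.Morphisms.FiniteType

/-!
# Reflecting specializations is tested on base changes locally of finite type
-/

set_option autoImplicit false
set_option linter.style.haveILetI false
set_option backward.isDefEq.respectTransparency false
set_option backward.isDefEq.respectTransparency.types false

universe u

namespace Groth.Agent.MonoVal

open CategoryTheory CategoryTheory.Limits AlgebraicGeometry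
open scoped TensorProduct

/-- Cancelling a monomorphism in a fibre product. -/
lemma isIso_map_mono {A B U X : Scheme.{u}} (a : A ⟶ U) (b : B ⟶ U) (m : U ⟶ X) [Mono m] :
    IsIso (pullback.map a b (a ≫ m) (b ≫ m) (𝟙 _) (𝟙 _) m (by simp) (by simp)) := by
  refine ⟨⟨pullback.lift (pullback.fst _ _) (pullback.snd _ _) ?_, ?_, ?_⟩⟩
  · rw [← cancel_mono m]; simpa using pullback.condition
  · apply pullback.hom_ext <;> simp
  · apply pullback.hom_ext <;> simp

section chart

variable {X Y : Scheme.{u}} (f : Y ⟶ X) {U : X.Opens} (hU : IsAffineOpen U) {V : Y.Opens} (hV : IsAffineOpen V)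
  (hVU : V ≤ f ⁻¹ᵁ U)
  (S : Type u) [CommRing S] [Algebra Γ(X, U) S]

/-- The morphism from `Spec S` to `X`. -/
noncomputable def base : Spec (CommRingCat.of S) ⟶ X :=
  Spec.map (CommRingCat.ofHom (algebraMap Γ(X, U) S)) ≫ hU.fromSpec

/-- The chart of the fibre product over affine opens. -/
lemma exists_chart :
    letI := (f.appLE U V hVU).hom.toAlgebra
    ∃ Θ : Spec (CommRingCat.of (Γ(Y, V) ⊗[Γ(X, U)] S)) ⟶ pullback f (base hU S),
      IsOpenImmersion Θ ∧
      Θ ≫ pullback.fst f (base hU S) =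
        Spec.map (CommRingCat.ofHom Algebra.TensorProduct.includeLeftRingHom) ≫ hV.fromSpec ∧
      Θ ≫ pullback.snd f (base hU S) =
        Spec.map (CommRingCat.ofHom (Algebra.TensorProduct.includeRight.toRingHom :
          S →+* Γ(Y, V) ⊗[Γ(X, U)] S)) ∧
      ∀ y : ↥(pullback f (base hU S)), pullback.fst f (base hU S) y ∈ V → y ∈ Set.range Θ := by
  letI := (f.appLE U V hVU).hom.toAlgebra
  let a := Spec.map (CommRingCat.ofHom (algebraMap Γ(X, U) Γ(Y, V)))
  let b := Spec.map (CommRingCat.ofHom (algebraMap Γ(X, U) S))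
  have e₁ : a ≫ hU.fromSpec = hV.fromSpec ≫ f :=
    IsAffineOpen.SpecMap_appLE_fromSpec f hU hV hVU
  let m₁ := pullback.map a b (a ≫ hU.fromSpec) (b ≫ hU.fromSpec) (𝟙 _) (𝟙 _) hU.fromSpec (by simp) (by simp)
  haveI : IsIso m₁ := isIso_map_mono a b hU.fromSpec
  let m₂ := pullback.map (a ≫ hU.fromSpec) (b ≫ hU.fromSpec) f (base hU S) hV.fromSpec (𝟙 _) (𝟙 X)
    ((Category.comp_id _).trans e₁) ((Category.comp_id _).trans (Category.id_comp _).symm)
  haveI : IsOpenImmersion m₂ := MorphismProperty.pullbackMap (P := @IsOpenImmersion)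
    (inferInstance : IsOpenImmersion hV.fromSpec) (inferInstance : IsOpenImmersion (𝟙 _)) e₁ (Category.id_comp _).symm
  refine ⟨(pullbackSpecIso Γ(X, U) Γ(Y, V) S).inv ≫ m₁ ≫ m₂, inferInstance, ?_, ?_, fun y hy => ?_⟩
  · simp only [Category.assoc, m₁, m₂, pullback.lift_fst, pullback.lift_fst_assoc,
      Category.comp_id]
    rw [pullbackSpecIso_inv_fst_assoc]
  · simp only [Category.assoc, m₁, m₂, pullback.lift_snd,
      Category.comp_id]
    rw [pullbackSpecIso_inv_snd]
    rfl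
  · have hr : y ∈ Set.range m₂ := by
      rw [Scheme.Pullback.range_map]
      refine ⟨?_, ⟨_, rfl⟩⟩
      show _ ∈ Set.range hV.fromSpec
      rw [hV.range_fromSpec]
      exact hy
    obtain ⟨z, rfl⟩ := hr
    obtain ⟨z', rfl⟩ := m₁.surjective z
    obtain ⟨z'', rfl⟩ := (pullbackSpecIso Γ(X, U) Γ(Y, V) S).inv.surjective z'
    exact ⟨z'', rfl⟩

end chart

variable {X Y : Scheme.{u}} (f : Y ⟶ X)

theorem reflects_affine (h : ∀ (X' : Scheme.{u}) (g : X' ⟶ X) [LocallyOfFiniteType g], Reflects f g)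
    {U : X.Opens} (hU : IsAffineOpen U) (B : Type u) [CommRing B] [Algebra Γ(X, U) B] :
    Reflects f (base hU B) := by
  intro y₀ y₁ hy
  -- finitely generated stages
  let m : ∀ S : Subalgebra Γ(X, U) B, pullback f (base hU B) ⟶ pullback f (base hU S) := fun S =>
    pullback.lift (pullback.fst _ _) (pullback.snd _ _ ≫ Spec.map (CommRingCat.ofHom S.val.toRingHom)) (by
      rw [pullback.condition, Category.assoc, base, base, ← Spec.map_comp_assoc]
      rfl)
  have stage : ∀ S : Subalgebra Γ(X, U) B, S.FG → m S y₁ ⤳ m S y₀ := fun S hS => by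
    haveI : Algebra.FiniteType Γ(X, U) S := (S.fg_iff_finiteType).1 hS
    haveI : LocallyOfFiniteType (Spec.map (CommRingCat.ofHom (algebraMap Γ(X, U) S))) := by
      rw [HasRingHomProperty.Spec_iff (P := @LocallyOfFiniteType)]
      exact RingHom.finiteType_algebraMap.2 inferInstance
    haveI : LocallyOfFiniteType (base hU S) := by unfold base; infer_instance
    refine h _ (base hU S) (m S y₀) (m S y₁) ?_
    have e : m S ≫ pullback.snd f (base hU S) =
        pullback.snd f (base hU B) ≫ Spec.map (CommRingCat.ofHom S.val.toRingHom) := pullback.lift_snd _ _ _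
    simp only [← Scheme.Hom.comp_apply, e]
    simp only [Scheme.Hom.comp_apply]
    exact hy.map (Spec.map (CommRingCat.ofHom S.val.toRingHom)).continuous
  let v₀ := pullback.fst f (base hU B) y₀
  obtain ⟨V, hV, hv₀, hVU⟩ := exists_isAffineOpen_mem_and_subset (x := v₀) (U := f ⁻¹ᵁ U) (by
    show f (pullback.fst f (base hU B) y₀) ∈ U
    rw [← Scheme.Hom.comp_apply, pullback.condition, Scheme.Hom.comp_apply]
    exact hU.range_fromSpec.le ⟨Spec.map (CommRingCat.ofHom (algebraMap Γ(X, U) B)) (pullback.snd f (base hU B) y₀),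
      (Scheme.Hom.comp_apply _ _ _).symm⟩)
  have hv₁ : pullback.fst f (base hU B) y₁ ∈ V := by
    have hbot := (stage ⊥ Subalgebra.fg_bot).map (pullback.fst f (base hU (⊥ : Subalgebra Γ(X, U) B))).continuous
    simp only [← Scheme.Hom.comp_apply, m, pullback.lift_fst] at hbot
    exact hbot.mem_open V.2 hv₀
  letI := (f.appLE U V hVU).hom.toAlgebra
  obtain ⟨Θ, hΘ, hΘ₁, hΘ₂, hr⟩ := exists_chart f hU hV hVU B
  obtain ⟨t₀, rfl⟩ := hr y₀ hv₀
  obtain ⟨t₁, rfl⟩ := hr y₁ hv₁
  refine Specializes.map ?_ Θ.continuous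
  refine (PrimeSpectrum.le_iff_specializes _ _).1 fun e he => ?_
  obtain ⟨S, hS, e', rfl⟩ : ∃ S : Subalgebra Γ(X, U) B, S.FG ∧ ∃ e' : Γ(Y, V) ⊗[Γ(X, U)] S,
      Algebra.TensorProduct.map (AlgHom.id Γ(X, U) Γ(Y, V)) S.val e' = e := by
    clear he
    induction e using TensorProduct.induction_on with
    | zero => exact ⟨⊥, Subalgebra.fg_bot, 0, map_zero _⟩
    | tmul c b =>
      exact ⟨Algebra.adjoin Γ(X, U) {b}, Subalgebra.fg_adjoin_finset {b} |> fun hh => by simpa using hh,
        c ⊗ₜ ⟨b, Algebra.subset_adjoin rfl⟩, by simp⟩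
    | add p q hp hq =>
      obtain ⟨S, hS, p', rfl⟩ := hp
      obtain ⟨T, hT, q', rfl⟩ := hq
      refine ⟨S ⊔ T, hS.sup hT,
        Algebra.TensorProduct.map (AlgHom.id Γ(X, U) Γ(Y, V)) (Subalgebra.inclusion le_sup_left) p' +
        Algebra.TensorProduct.map (AlgHom.id Γ(X, U) Γ(Y, V)) (Subalgebra.inclusion le_sup_right) q', ?_⟩
      simp only [map_add, ← AlgHom.comp_apply, ← Algebra.TensorProduct.map_comp, AlgHom.id_comp,
        Subalgebra.val_comp_inclusion]
  obtain ⟨Φ, hΦ, hΦ₁, hΦ₂, -⟩ := exists_chart f hU hV hVU S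
  let ι : CommRingCat.of (Γ(Y, V) ⊗[Γ(X, U)] S) ⟶ CommRingCat.of (Γ(Y, V) ⊗[Γ(X, U)] B) :=
    CommRingCat.ofHom (Algebra.TensorProduct.map (AlgHom.id Γ(X, U) Γ(Y, V)) S.val).toRingHom
  have comm : Θ ≫ m S = Spec.map ι ≫ Φ := by
    apply pullback.hom_ext
    · rw [Category.assoc, Category.assoc, pullback.lift_fst, hΘ₁, hΦ₁, ← Spec.map_comp_assoc]
      congr 2
    · rw [Category.assoc, Category.assoc, pullback.lift_snd, hΦ₂, reassoc_of% hΘ₂, ← Spec.map_comp,
        ← Spec.map_comp]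
      congr 1
  have hsp : (Spec.map ι) t₁ ⤳ (Spec.map ι) t₀ := by
    rw [← Φ.isOpenEmbedding.isInducing.specializes_iff, ← Scheme.Hom.comp_apply, ← Scheme.Hom.comp_apply,
      ← comm, Scheme.Hom.comp_apply, Scheme.Hom.comp_apply]
    exact stage S hS
  exact (PrimeSpectrum.le_iff_specializes _ _).2 hsp he

theorem reflects_all (h : ∀ (X' : Scheme.{u}) (g : X' ⟶ X) [LocallyOfFiniteType g], Reflects f g)
    {X' : Scheme.{u}} (g : X' ⟶ X) : Reflects f g := by
  intro y₀ y₁ hy
  let x₀ := pullback.snd f g y₀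
  obtain ⟨U, hU, hx, -⟩ := exists_isAffineOpen_mem_and_subset (x := g x₀) (U := (⊤ : X.Opens)) trivial
  obtain ⟨W, hW, hx₀, hWU⟩ := exists_isAffineOpen_mem_and_subset (x := x₀) (U := g ⁻¹ᵁ U) hx
  have hx₁ : pullback.snd f g y₁ ∈ W := hy.mem_open W.2 hx₀
  letI := (g.appLE U W hWU).hom.toAlgebra
  have eb : base hU Γ(X', W) = hW.fromSpec ≫ g := IsAffineOpen.SpecMap_appLE_fromSpec g hU hW hWU
  let j := pullback.map f (base hU Γ(X', W)) f g (𝟙 _) hW.fromSpec (𝟙 X) (by simp) (by simpa using eb)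
  have hr : ∀ y, pullback.snd f g y ∈ W → y ∈ Set.range j := fun y hy => by
    rw [Scheme.Pullback.range_map]
    refine ⟨⟨_, rfl⟩, ?_⟩
    show _ ∈ Set.range hW.fromSpec
    rw [hW.range_fromSpec]
    exact hy
  obtain ⟨a₀, rfl⟩ := hr y₀ hx₀
  obtain ⟨a₁, rfl⟩ := hr y₁ hx₁
  refine Specializes.map ?_ j.continuous
  refine reflects_affine f h hU _ a₀ a₁ ?_
  rw [← hW.fromSpec.isOpenEmbedding.isInducing.specializes_iff]
  have e : j ≫ pullback.snd f g = pullback.snd f (base hU Γ(X', W)) ≫ hW.fromSpec := pullback.lift_snd _ _ _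
  have e' : ∀ a, pullback.snd f g (j a) = hW.fromSpec (pullback.snd f (base hU Γ(X', W)) a) := fun a =>
    ((Scheme.Hom.comp_apply j _ a).symm.trans (congrArg (fun q => q a) e)).trans (Scheme.Hom.comp_apply _ _ a)
  rw [← e', ← e']
  exact hy

end Groth.Agent.MonoVal
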